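import Cfsg.Agent.LieM.Gold10
import Cfsg.Agent.Block.Dade
import Cfsg.Agent.Block.Klein
import Cfsg.Agent.BMod.Central2
import Cfsg.Agent.S2300

/-! Principal 2-blocks of groups with abelian Sylow 2-subgroups: `sup_cent` (normal subgroups are central factors),
`simple_cases`, `odd_deg` (height zero when some involution has a 2-nilpotent centraliser), `card_of_NC`. -/

set_option autoImplicit false
set_option linter.unusedSectionVars false

namespace Cfsg.Agent.AB

open Subgroup Cfsg.Agent.BG Cfsg.Agent.Invol Cfsg.Agent.Block Cfsg.Agent.Char Cfsg.Agent.Classical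
open scoped _root_.Classical MatrixGroups

universe u
variable {G : Type u} [Group G] [Finite G] {x t : G} {M : Ideal AlgInt} [PMod 2 M]

theorem Op'_sub (hO : pPrimeCore 2 G = ⊥) (K : Subgroup G) [K.Normal] : Op' 2 K = ⊥ :=
  (pcore_setI_normal _ (normal_top_iff.2 ‹_›)).symm.trans (by rw [show piCoreOf _ ⊤ = ⊥ from (Op'_top 2).trans hO, bot_inf_eq])

theorem syl_le_sup (hab : ∀ Q : Subgroup G, IsPGroup 2 Q → IsMulCommutative Q) {K : Subgroup G} [K.Normal]
    (hO : Op' 2 K = ⊥) (P : Sylow 2 G) : (P : Subgroup G) ≤ K ⊔ C[K] := fun x hx => by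
  have ab := hab _ P.isPGroup'
  obtain ⟨p, hp, h⟩ := inner (x := x) (Sylow_setI_normal (normal_top_iff.2 ‹_›) (sylowIn_top P))
    (hab _ (P.isPGroup'.to_le inf_le_right)) hO (P.isPGroup'.to_le (zpowers_le.2 hx)) (le_normalizer_of_normal (mem_top x))
    (centralizer_le inf_le_right (IsMulCommutative.cent ab hx))
  simpa using mul_mem_sup hp.1 h

theorem simple_cases [IsSimpleGroup G] (hG : ¬ IsMulCommutative G)
    (hab : ∀ Q : Subgroup G, IsPGroup 2 Q → IsMulCommutative Q) :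
    (∃ (F : Type) (_ : Field F) (_ : Fintype F) (n : ℕ), 2 ≤ n ∧ Fintype.card F = 2 ^ n ∧ Nonempty (G ≃* SL(2, F)) ∧
      ∀ P : Sylow 2 G, #(P : Subgroup G) = 2 ^ n) ∨ (∃ P : Sylow 2 G, IsKleinFour P) ∨
    ∃ (t : G) (E L : Subgroup G) (u s : L) (K : Subgroup L) (F : Type) (_ : Field F) (_ : Fintype F),
      WJ t E L u s K ∧ Odd (Nat.card F) ∧ 4 ≤ Nat.card F ∧ Nonempty (L ≃* PSL(2, F)) := by
  obtain ⟨S⟩ : Nonempty (Sylow 2 G) := inferInstance
  rcases LieM.kn_of_ab hG S (hab _ S.isPGroup') with ⟨M, hM⟩ | ⟨V, h1, h2, h3⟩ |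
    ⟨A, hA, -, hS, t, E, L, h1, h2, h3, ⟨F, i1, i2, ho, h5, ⟨e⟩⟩, h4⟩
  · obtain ⟨F, i1, i2, n, k1, k2, ⟨e⟩, k4⟩ := psl_of_se hG hab hM
    refine .inl ⟨F, i1, i2, n, k1, k2, ⟨e.trans (slEquivPSL (by_contra fun h => ?_)).symm⟩, fun P => (k4 P).1⟩
    have := two_ne_zero_iff_odd.1 h
    rw [Nat.card_eq_fintype_card, k2, Nat.odd_pow_iff (by omega)] at this
    exact absurd this (by decide)
  · obtain ⟨P, rfl⟩ := sylow_of_sylowIn_top h3
    exact .inr (.inl ⟨P, Gold.klein_of h1 h2⟩)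
  · rw [← Nat.card_eq_fintype_card] at ho h5
    have := Matrix.ProjectiveSpecialLinearGroup.rank_two_simple (F := F) h5
    obtain ⟨u, s, K, w⟩ := wj_of_psl (simple_perfect hG) hab h1 h2 h3 h4 ho e (Op'_simple e.isSimpleGroup
      (Nat.card_congr e.toEquiv ▸ (Dvd.intro 2 rfl).trans (psl_four_dvd h5.le)))
    exact .inr (.inr ⟨t, E, L, u, s, K, F, i1, i2, w, ho, h5, ⟨e⟩⟩)

theorem klein_one [IsSimpleGroup G] (hG : ¬ IsMulCommutative G) {P : Sylow 2 G} (h : IsKleinFour P) (s t : G)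
    (hs : orderOf s = 2) (ht : orderOf t = 2) : IsConj s t :=
  ((Inv3.complement_or_isConj (inv3_of_isKleinFour h)).resolve_left (not_compl_simple hG)) s t hs ht

theorem sl_deg {F : Type*} [Field F] [Fintype F] {n : ℕ} (hn : 2 ≤ n) (hF : Fintype.card F = 2 ^ n) (e : G ≃* SL(2, F))
    (χ : IrrCharacter G) : Odd (charDegree χ.1) ∨ charDegree χ.1 = 2 ^ n := by
  have : CharP F 2 := charP_of_card_eq_prime_pow hF
  obtain ⟨k, rfl⟩ : ∃ k, n = k + 1 := ⟨n - 1, by omega⟩
  have h := (S2300.result (F := F)).1 _ (χ.2.comp_of_surjective e.symm.toMonoidHom e.symm.surjective)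
  simp only [Function.comp, map_one, χ.2.apply_one_eq_charDegree, hF, eq_sub_iff_add_eq] at h
  norm_cast at h
  rw [Nat.odd_iff]
  omega

/-- `C(x)` has a normal 2-complement -/
def NC (x : G) : Prop := ∀ a b : G, Commute a x → Commute b x → Odd (orderOf a) → Odd (orderOf b) → Odd (orderOf (a * b))

theorem nc_iff : NC x ↔ HasNormalPComplement 2 C1[x] := by
  simp only [Transfer.hasNormalPComplement_iff_mul_coprime, Nat.coprime_two_right, ← orderOf_coe, Subtype.forall, mem_cent1]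
  exact ⟨fun h a ha b hb => h a b ha hb, fun h a b ha hb => h a ha b hb⟩

theorem NC.sub {K : Subgroup G} (h : NC x) (k : K) (hk : ∀ a : K, Commute a k → Commute (a : G) x) : NC k :=
  fun a b ha hb h1 h2 => by
    rw [← orderOf_coe] at *
    exact h a b (hk a ha) (hk b hb) h1 h2

theorem odd_deg_simple [IsSimpleGroup G] (hG : ¬ IsMulCommutative G)
    (hab : ∀ Q : Subgroup G, IsPGroup 2 Q → IsMulCommutative Q) {n : ℕ} (hx : x ^ 2 ^ n = 1) (h : NC x)
    {χ : IrrCharacter G} (hχ : χ ∈ principalBlock M G) : Odd (charDegree χ.1) := by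
  rcases simple_cases hG hab with ⟨F, _, _, n, h1, h2, ⟨e⟩, h3⟩ | ⟨P, hP⟩ | ⟨t, E, L, u, s, K, F, _, _, w, h1, h2, ⟨e⟩⟩
  · obtain ⟨P⟩ : Nonempty (Sylow 2 G) := inferInstance
    have k : (Nat.card G).factorization 2 = n := Nat.pow_right_injective le_rfl (P.card_eq_multiplicity.symm.trans (h3 P))
    refine (sl_deg h1 h2 e χ).resolve_right fun r => ?_
    have := factorization_deg_lt_of_mem_principal (Nat.dvd_of_factorization_pos (by omega)) hχ
    simp [r, k, Nat.prime_two.factorization_self] at this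
  · obtain ⟨δ, -, h1, -⟩ := klein_block (M := M) hP (klein_one hG hP)
    obtain ⟨h1, h2, -⟩ := h1 χ hχ
    rw [Nat.odd_iff]; omega
  · have := Matrix.ProjectiveSpecialLinearGroup.rank_two_simple (F := F) h2
    have := e.isSimpleGroup
    obtain ⟨g, hg⟩ : ∃ g, ∀ a ∈ L, Commute (g * a * g⁻¹) x := by
      by_cases x1 : x = 1
      · exact ⟨1, by simp [x1]⟩
      obtain ⟨g, rfl⟩ := isConj_iff.1 (w.cls (orderOf_two_iff.2 ⟨w.sq hx, x1⟩))
      exact ⟨g, fun a ha => Commute.map (mem_cent1.1 (w.LC ha)) (MulAut.conj g)⟩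
    refine (not_compl_simple (G := L) (fun r => ?_) (Transfer.hasNormalPComplement_iff_mul_coprime.2 fun a b ha hb => ?_)).elim
    · obtain ⟨c, hc⟩ := isConj_iff.1 (w.bsw.cls s w.bsw.hs)
      exact w.bsw.sK (by rw [← hc, r.is_comm.comm c, mul_inv_cancel_right]; exact w.bsw.tK)
    · have o : ∀ a : L, orderOf (g * a * g⁻¹) = orderOf a := fun a =>
        ((MulAut.conj g).orderOf_eq a.1).trans (orderOf_coe a)
      rw [Nat.coprime_two_right, ← o] at *
      simpa [mul_assoc] using h _ _ (hg a a.2) (hg b b.2) ha hb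

theorem cent_norm_bot (h : ∀ H : Subgroup G, H.index ≠ 2) (P : Sylow 2 G) (ab : IsMulCommutative P) :
    (P : Subgroup G) ⊓ C[N[(P : Subgroup G)]] = ⊥ := by
  have h1 := (ab_split' (sylowIn_top P) ab).inf
  have h2 := Transfer.sylow_inf_pResidual_of_comm P ab
  rw [pResidual_two_eq_top_iff.2 h, inf_top_eq] at h2
  rwa [top_inf_eq, ← h2, ← inf_assoc, inf_idem] at h1

theorem odd_deg_aux (n : ℕ) : ∀ (G : Type u) [Group G] [Finite G], Nat.card G = n →
    (∀ Q : Subgroup G, IsPGroup 2 Q → IsMulCommutative Q) → pPrimeCore 2 G = ⊥ → ∀ (x : G) (j : ℕ), x ^ 2 ^ j = 1 → NC x →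
    ∀ χ ∈ principalBlock M G, Odd (charDegree χ.1) := by
  induction n using Nat.strong_induction_on with | _ n ih => ?_
  rintro G _ _ rfl hab hO x j hx h χ hχ
  have := Fintype.ofFinite G
  obtain ⟨P⟩ : Nonempty (Sylow 2 G) := inferInstance
  have IH : ∀ (K : Subgroup G) [K.Normal], K ≠ ⊤ → ∀ (k : K) (j : ℕ), k ^ 2 ^ j = 1 →
      (∀ a : K, Commute a k → Commute (a : G) x) → ∀ θ : IrrCharacter K, LiesOver K χ θ → Odd (charDegree θ.1) :=
    fun K _ hK k j hk hc θ hθ => ih _ ((proper_card (lt_top_iff_ne_top.2 hK)).trans_eq card_top) K rfl (hab_sub hab K) ((map_eq_bot_iff_of_injective _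
      K.subtype_injective).1 ((Op'_eq 2 K).symm.trans (Op'_sub hO K))) k j hk (h.sub k hc) θ (Dade.mem_principal_of_over hχ hθ)
  by_cases h1 : ∃ N : Subgroup G, N.Normal ∧ N ≠ ⊤ ∧ ¬ 2 ∣ N.index
  · obtain ⟨N, _, h1, h2⟩ := h1
    obtain ⟨θ, hθ⟩ := exists_liesOver_under (N := N) χ
    have xN : x ∈ N := by
      rw [← QuotientGroup.eq_one_iff, ← orderOf_eq_one_iff]
      exact Nat.eq_one_of_dvd_coprimes (Nat.Coprime.pow_left j (Nat.prime_two.coprime_iff_not_dvd.2 h2))
        (orderOf_dvd_of_pow_eq_one (by rw [← QuotientGroup.mk_pow, hx]; rfl)) (orderOf_dvd_natCard _)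
    have o := IH N h1 ⟨x, xN⟩ j (Subtype.ext hx) (fun a ha => ha.map N.subtype) θ hθ
    have := BMod.LiesOver.factorization_le (p := 2) hθ
    rw [Nat.factorization_eq_zero_of_not_dvd h2, Nat.factorization_eq_zero_of_not_dvd o.not_two_dvd_nat] at this
    exact Nat.not_even_iff_odd.1 fun e => by
      have := Nat.prime_two.factorization_pos_of_dvd χ.2.charDegree_pos.ne' e.two_dvd; omega
  push Not at h1
  have top : ∀ N : Subgroup G, N.Normal → (P : Subgroup G) ≤ N → N = ⊤ := fun N hN l =>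
    by_contra fun r => P.not_dvd_index ((h1 N hN r).trans (index_dvd_of_le l))
  have o2 : ∀ (K : Subgroup G) [K.Normal], IsPGroup 2 (K ⊓ C[K] : Subgroup G) := fun K _ => by
    have := (nilpotent_pcoreC {2} (abelian_nil (A := K ⊓ C[K]) (abelian_of_cent (inf_le_right.trans
      (centralizer_le inf_le_left))))).sup
    rw [show piCoreOf _ _ = ⊥ from Op'_sub hO _, sup_bot_eq] at this
    exact this ▸ Op_pgroup 2 _
  by_cases h2 : ∃ K : Subgroup G, K.Normal ∧ K ≠ ⊤ ∧ C[K] ≠ ⊤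
  · obtain ⟨K, _, h2, h3⟩ := h2
    have hc : ∀ (u : K) (v : C[K]), Commute (u : G) v := fun u v => v.2 u u.2
    let f : K × C[K] →* G := K.subtype.noncommCoprod (C[K]).subtype hc
    have hf0 : ∀ x, f x = x.1 * x.2 := fun _ => rfl
    have hf : Function.Surjective f := by
      rw [← MonoidHom.range_eq_top, eq_top_iff, ← top _ inferInstance (syl_le_sup hab (Op'_sub hO K) P), sup_le_iff]
      exact ⟨fun u hu => ⟨(⟨u, hu⟩, 1), by simp [hf0]⟩, fun u hu => ⟨(1, ⟨u, hu⟩), by simp [hf0]⟩⟩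
    obtain ⟨φ, ψ, h4, h5, e⟩ := exists_prod_of_isIrr (χ.2.comp_of_surjective f hf)
    obtain ⟨⟨k, c⟩, rfl⟩ := hf x
    rw [hf0, (hc k c).mul_pow] at hx
    obtain ⟨i, hi⟩ := o2 K ⟨k ^ 2 ^ j, pow_mem k.2 _, eq_inv_of_mul_eq_one_left hx ▸ inv_mem (pow_mem c.2 _)⟩
    replace hi : ((k : G) ^ 2 ^ j) ^ 2 ^ i = 1 := congrArg Subtype.val hi
    have o1 := IH K h2 k (j + i) (Subtype.ext (by simpa [pow_add, pow_mul] using hi)) (fun a ha =>
      (ha.map K.subtype).mul_right (hc a c)) ⟨φ, h4⟩ (liesOver_iff.2 (by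
        rw [show (fun u : K => χ.1 u) = ψ 1 • φ from funext fun u => by simpa [hf0, mul_comm] using congrFun e (u, 1),
          classInner_smul_left, h4.classInner_self, mul_one]; exact h5.apply_one_ne_zero))
    have o2 := IH _ h3 c (j + i) (Subtype.ext (by simpa [pow_add, pow_mul, eq_inv_of_mul_eq_one_left hx] using hi))
      (fun a ha => (hc k a).symm.mul_right (ha.map (C[K]).subtype)) ⟨ψ, h5⟩ (liesOver_iff.2 (by
        rw [show (fun u : C[K] => χ.1 u) = φ 1 • ψ from funext fun u => by simpa [hf0] using congrFun e (1, u),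
          classInner_smul_left, h5.classInner_self, mul_one]; exact h4.apply_one_ne_zero))
    have := congrFun e 1
    simp only [Function.comp, map_one, Prod.fst_one, Prod.snd_one, χ.2.apply_one_eq_charDegree, h4.apply_one_eq_charDegree,
      h5.apply_one_eq_charDegree] at this
    norm_cast at this
    exact this ▸ o1.mul o2
  push Not at h2
  by_cases hG : IsMulCommutative G
  · exact (Odd.of_dvd_nat odd_one (by simpa using CharDeep.charDegree_dvd_index_of_abelian (N := ⊤) (fun a _ b _ => hG.is_comm.comm a b) χ.2))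
  have h3 : ∀ H : Subgroup G, H.index ≠ 2 := fun H e => by
    have := normal_of_index_eq_two e
    have : IsCyclic (G ⧸ H) := isCyclic_of_prime_card e
    refine hG ((QuotientGroup.mk' H).isMulCommutative_of_isCyclic_of_ker_le_center fun z hz => mem_center_iff.2 fun g => ?_)
    exact ((h2 H ‹_› (by rintro rfl; simp at e)).ge (mem_top g) z (by simpa using hz)).symm
  have : Nontrivial G := not_subsingleton_iff_nontrivial.1 fun _ => hG ⟨⟨fun _ _ => Subsingleton.elim _ _⟩⟩
  have : IsSimpleGroup G := ⟨fun K hK => or_iff_not_imp_right.2 fun r => eq_bot_iff.2 fun z hz => by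
    have c := cents_symm (h2 K hK r).ge
    exact (cent_norm_bot h3 P (hab _ P.isPGroup')).le ⟨(o2 K).le_sylow_of_normal P
      ⟨hz, centralizer_le (fun _ _ => mem_top _) (c hz)⟩, centralizer_le (fun _ _ => mem_top _) (c hz)⟩⟩
  exact odd_deg_simple hG hab hx h hχ

theorem odd_deg (hab : ∀ Q : Subgroup G, IsPGroup 2 Q → IsMulCommutative Q) (hx : orderOf x = 2) (h : NC x)
    {χ : IrrCharacter G} (hχ : χ ∈ principalBlock M G) : Odd (charDegree χ.1) := by
  have hf := QuotientGroup.mk'_surjective (pPrimeCore 2 G)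
  have ho : Odd #(QuotientGroup.mk' (pPrimeCore 2 G)).ker := by
    rw [QuotientGroup.ker_mk']; exact Nat.coprime_two_right.1 (Solv.coprime_card_pPrimeCore 2 G)
  rw [principalBlock_eq_image_infl hf ho.not_two_dvd_nat] at hχ
  obtain ⟨ψ, hψ, rfl⟩ := hχ
  rw [charDegree_infl]
  generalize QuotientGroup.mk' (pPrimeCore 2 G) = f at *
  have o : ∀ a, Odd (orderOf (f a)) → Odd (orderOf a) := fun a ha => (ha.mul ho).of_dvd_nat (orderOf_dvd_of_pow_eq_one (by
    rw [pow_mul]; exact congrArg Subtype.val (pow_card_eq_one' (x := (⟨_, by simp⟩ : f.ker)))))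
  refine odd_deg_aux _ _ rfl (hab_map hf hab) (Solv.pPrimeCore_quotient_pPrimeCore 2 G) (f x) 1
    (by rw [← map_pow, pow_one, sq_of_ord hx, map_one]) (fun a b ha hb h1 h2 => ?_) ψ hψ
  obtain ⟨a, ha', rfl⟩ := (cent_map_odd hf ho hx).ge (mem_cent1.2 ha)
  obtain ⟨b, hb', rfl⟩ := (cent_map_odd hf ho hx).ge (mem_cent1.2 hb)
  exact (h a b (mem_cent1.1 ha') (mem_cent1.1 hb') (o a h1) (o b h2)).of_dvd_nat (map_mul f a b ▸ orderOf_map_dvd f _)

theorem exists_syl_cent (hab : ∀ Q : Subgroup G, IsPGroup 2 Q → IsMulCommutative Q) (hx : orderOf x = 2) (P : Sylow 2 G) :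
    2 ^ (#C1[x]).factorization 2 = #(P : Subgroup G) := by
  obtain ⟨Q, hQ⟩ := (IsPGroup.of_card (p := 2) (n := 1) (Nat.card_zpowers x |>.trans hx)).exists_le_sylow
  rw [← card_Sylow (pHall_subl (fun a ha => mem_cent1.2 (IsMulCommutative.comm (hab _ Q.isPGroup') ha (hQ (mem_zpowers x))))
    le_top (sylowIn_top Q)), card_Hall_eq (sylowIn_top P) (sylowIn_top Q)]

theorem card_of_NC (hab : ∀ Q : Subgroup G, IsPGroup 2 Q → IsMulCommutative Q) (hx : orderOf x = 2) (h : NC x) (P : Sylow 2 G) :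
    Nat.card (principalBlock M G) ≤ #(P : Subgroup G) ∧ Nat.card (principalBlock M G) % 8 = #(P : Subgroup G) % 8 ∧
      0 < Nat.card (principalBlock M G) := by
  have x2 := (orderOf_two_iff.1 hx).1
  choose d hd using fun χ : IrrCharacter G => exists_int_apply_invol χ.2.isCharacter x2
  have e := col_principal_self (M := M) ⟨1, hx⟩ (nc_iff.1 h)
  simp only [col_apply, inv_eq_of_mul_eq_one_right x2, exists_syl_cent hab hx P, fun χ => (hd χ).1, ← Finset.sum_filter] at e
  norm_cast at e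
  have o : ∀ χ ∈ Finset.univ.filter (· ∈ principalBlock M G), d χ * d χ % 8 = 1 := fun χ hχ => by
    have := Nat.odd_iff.1 (odd_deg hab hx h (Finset.mem_filter.1 hχ).2)
    have := (hd χ).2
    have : d χ % 8 = 1 ∨ d χ % 8 = 3 ∨ d χ % 8 = 5 ∨ d χ % 8 = 7 := by omega
    rcases this with r | r | r | r <;> simp [Int.mul_emod, r]
  have c : Nat.card (principalBlock M G) = (Finset.univ.filter (· ∈ principalBlock M G)).card := by
    simp [Fintype.card_subtype]
  have h1 := Finset.card_nsmul_le_sum _ _ 1 fun χ hχ => show 1 ≤ d χ * d χ by have := o χ hχ; have := mul_self_nonneg (d χ); omega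
  have h2 := Finset.sum_int_mod (Finset.univ.filter (· ∈ principalBlock M G)) 8 fun χ => d χ * d χ
  rw [Finset.sum_congr rfl o] at h2
  have : Nonempty (principalBlock M G) := ⟨⟨_, irrOne_mem_principalBlock⟩⟩
  refine ⟨?_, ?_, Nat.card_pos⟩ <;> rw [c] <;> simp only [Finset.sum_const, nsmul_eq_mul, mul_one, smul_eq_mul] at h1 h2 <;> omega

end Cfsg.Agent.AB
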