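import Cfsg.Agent.AB.Blk
import Cfsg.Agent.LieM.Gold11
import Cfsg.Agent.S3188
import Cfsg.Agent.S4551
import Cfsg.Agent.S4640
import Cfsg.Agent.S0018
import Cfsg.Agent.S0276
import Cfsg.Agent.Block.PSolv
import Cfsg.Agent.Block.FrobB

/-! Principal 2-blocks of groups with an abelian Sylow 2-subgroup `P` and `|N(P) : C(P)|` prime (`prime_block`). -/

set_option autoImplicit false
set_option linter.unusedSectionVars false

namespace Cfsg.Agent.AB

open Subgroup Cfsg.Agent.BG Cfsg.Agent.Invol Cfsg.Agent.Block Cfsg.Agent.Char Cfsg.Agent.Classical Cfsg.Agent.BMod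
open scoped _root_.Classical MatrixGroups

universe u
variable {G : Type u} [Group G] [Finite G] {x t g : G} {M : Ideal AlgInt} [PMod 2 M] {S H : Subgroup G}

theorem lift_norm {H : Type*} [Group H] {f : G →* H} {p : ℕ} [Fact p.Prime] (P : Sylow p G)
    (hg : f g ∈ N[(P : Subgroup G).map f]) : ∃ n ∈ N[(P : Subgroup G)], f n = f g := by
  obtain ⟨m, ⟨a, ha, hm⟩, h⟩ := Sylow_Jsub (pHall_subl (le_comap_map f _) le_top (sylowIn_top P)) (Q := BG.cj g P)
    (fun x hx => by
      obtain ⟨y, hy, rfl⟩ := mem_cj'.1 hx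
      simpa using (mem_normalizer_iff.1 hg _).1 (mem_map_of_mem f hy)) (P.isPGroup'.map _)
  exact ⟨a⁻¹ * (m * g), mul_mem (normG _ (inv_mem ha)) (mem_norm_of_cj_le (by rwa [BG.cj_mul])), by simp [hm]⟩

theorem ee_sub (h : S ≤ H) : C[S.subgroupOf H].relIndex N[S.subgroupOf H] = C[S].relIndex (H ⊓ N[S]) := by
  rw [cent_subgroupOf h, ← subgroupOf_normalizer_eq h, ← inf_subgroupOf_left N[S], relIndex_subgroupOf inf_le_left]

theorem ee_res {p : ℕ} [Fact p.Prime] (P : Sylow p G) (ab : IsMulCommutative P) :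
    C[(P : Subgroup G) ⊓ pResidual p G].relIndex (pResidual p G ⊓ N[(P : Subgroup G) ⊓ pResidual p G]) =
      C[(P : Subgroup G)].relIndex N[(P : Subgroup G)] := by
  have s := Transfer.pResidual_sup_sylow P
  have d := (ab_split' (sylowIn_top P) ab).sup
  rw [top_inf_eq, ← Transfer.sylow_inf_pResidual_of_comm P ab] at d
  generalize hQ : (P : Subgroup G) ⊓ pResidual p G = Q at *
  have l : (P : Subgroup G) ≤ C[Q] := (IsMulCommutative.cent ab).trans (centralizer_le (hQ ▸ inf_le_left))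
  have n : N[(P : Subgroup G)] ≤ N[Q] := hQ ▸ normsI le_rfl (le_normalizer_of_normal.trans' le_top)
  have h1 := Frattini_arg (cent_normal Q) (pHall_subl l le_top (sylowIn_top P))
  have h2 : C[Q] ⊔ (pResidual p G ⊓ N[Q]) = N[Q] := le_antisymm (sup_le (cent_sub Q) inf_le_right) (by
    have := group_modr (.inr (le_normalizer_of_normal.trans' le_top)) (l.trans (cent_sub Q)) (A := pResidual p G)
    rw [s, inf_top_eq] at this
    exact this.le.trans (sup_le (le_sup_of_le_right (inf_comm _ _).le) (le_sup_of_le_left l)))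
  rw [← relIndex_sup_norml (norms_cent inf_le_right), h2, ← h1, inf_eq_right.2 n, relIndex_sup_norml (norms_cent n),
    ← inf_relIndex_right]
  congr 1
  refine le_antisymm (cents_symm (d.ge.trans (sup_le (cents_symm inf_le_left) (inf_le_right.trans (centralizer_le inf_le_right)))))
    (le_inf (centralizer_le (hQ ▸ inf_le_left)) (cent_sub _))

theorem index_le_rank {p : ℕ} [Fact p.Prime] {B : Set (IrrCharacter G)} (D : Subgroup G) [D.Normal]
    (hc : ∀ a b : G ⧸ D, a * b = b * a) (hr : ∀ a : G ⧸ D, ∃ g : G, ¬ p ∣ orderOf g ∧ (g : G ⧸ D) = a)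
    (h : ∀ β, infl (QuotientGroup.mk' D) (QuotientGroup.mk'_surjective D) β ∈ B) : D.index ≤ blockRank p B := by
  have := Fintype.ofFinite (G ⧸ D)
  let L : (G ⧸ D → ℂ) →ₗ[ℂ] G → ℂ := rho p ∘ₗ LinearMap.funLeft ℂ ℂ (↑)
  have hL : Function.Injective L := (injective_iff_map_eq_zero L).2 fun θ h => funext fun a => by
    obtain ⟨g, h1, rfl⟩ := hr a
    exact (rho_apply_of_not_dvd _ h1).symm.trans (congrFun h g)
  rw [index, Nat.card_eq_fintype_card, ← Module.finrank_fintype_fun_eq_card ℂ, ← LinearMap.finrank_range_of_inj hL]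
  refine Submodule.finrank_mono ?_
  rintro _ ⟨θ, rfl⟩
  rw [IsClassFunction.eq_sum_irr (θ := θ) fun a b => by rw [hc, inv_mul_cancel_left], map_sum]
  exact sum_mem fun β _ => by
    rw [map_smul]; exact Submodule.smul_mem _ _ (Submodule.subset_span ⟨_, h β, pRegularPart_eq p _⟩)

theorem mem_of_odd (ht : orderOf t = 2) (h : IsPGroup 2 C1[t]) {χ : IrrCharacter G} (ho : Odd (charDegree χ.1)) :
    χ ∈ principalBlock M G := by
  by_contra hn
  have x2 := (orderOf_two_iff.1 ht).1
  choose d hd using fun χ : IrrCharacter G => exists_int_apply_invol χ.2.isCharacter x2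
  obtain ⟨n, hn⟩ := h.exists_card_eq
  have e := col_principal_self (M := M) ⟨1, ht⟩ (nc_iff.1 fun a b ha hb h1 h2 => by
    have o : ∀ a, Commute a t → Odd (orderOf a) → a = 1 := fun a ha h => orderOf_eq_one_iff.1 (Nat.eq_one_of_dvd_coprimes
      (Nat.Coprime.pow_left n (Nat.coprime_two_left.2 h)) (hn ▸ orderOf_dvd_natCard _ (mem_cent1.2 ha)) dvd_rfl)
    simp [o a ha h1, o b hb h2])
  have e2 := sum_irr_norm_sq t
  simp only [col_apply, inv_eq_of_mul_eq_one_right x2, hn, Nat.factorization_pow_self Nat.prime_two, fun χ => (hd χ).1,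
    Complex.norm_intCast, sq_abs] at e e2
  norm_cast at e e2
  have r := (Finset.sum_eq_sum_iff_of_le fun χ _ => by split_ifs <;> nlinarith).1 (e.trans e2.symm) χ (Finset.mem_univ _)
  rw [if_neg ‹_›, eq_comm, pow_eq_zero_iff two_ne_zero] at r
  have := (hd χ).2
  rw [Nat.odd_iff] at ho
  omega

theorem sl_card {F : Type*} [Field F] [Fintype F] {n : ℕ} (hn : 2 ≤ n) (hF : Fintype.card F = 2 ^ n) :
    2 ^ n ≤ Nat.card (principalBlock M SL(2, F)) := by
  have : CharP F 2 := charP_of_card_eq_prime_pow hF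
  have q : 4 ≤ Fintype.card F := hF ▸ Nat.pow_le_pow_right (n := 2) two_pos hn
  have e := slEquivPSL (F := F) (CharP.cast_eq_zero F 2)
  obtain ⟨u, hu, -⟩ := psl_cent (F := F) (by rw [Nat.card_eq_fintype_card]; omega)
  have h : ∀ χ : IrrCharacter SL(2, F), Odd (charDegree χ.1) → χ ∈ principalBlock M _ := fun χ =>
    mem_of_odd (t := e.symm u) (by rwa [MulEquiv.orderOf_eq]) fun x => ⟨1, Subtype.ext (e.injective (by
      simpa [pow_two] using psl_sq (CharP.cast_eq_zero F 2) hu (x := e x)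
        (mem_cent1.2 (by simpa using congrArg e (mem_cent1.1 x.2)))))⟩
  obtain ⟨h1, -, h2, h3⟩ := (S2300.result (F := F)).2 q
  obtain ⟨k, rfl⟩ : ∃ k, n = k + 1 := ⟨n - 1, by omega⟩
  have c : ∀ (d : ℕ) (z : ℂ), z = d → Nat.card {χ : IrrCharacter SL(2, F) // χ.1 1 = z} =
      {χ : IrrCharacter SL(2, F) | charDegree χ.1 = d}.ncard := fun d z hz => by
    simp only [hz, fun χ : IrrCharacter SL(2, F) => χ.2.apply_one_eq_charDegree, Nat.cast_inj]; rfl
  rw [c 1 _ (by simp)] at h1
  rw [c (Fintype.card F + 1) _ (by simp)] at h2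
  rw [c (Fintype.card F - 1) _ (by rw [Nat.cast_pred (by omega)])] at h3
  have := Set.ncard_le_ncard (s := ({χ : IrrCharacter SL(2, F) | charDegree χ.1 = 1} ∪ {χ | charDegree χ.1 = Fintype.card F + 1}) ∪
    {χ | charDegree χ.1 = Fintype.card F - 1}) (t := principalBlock M _) fun χ r => h χ (by
      simp only [Set.mem_union, Set.mem_ofPred] at r; rw [Nat.odd_iff]; omega)
  rw [Set.ncard_union_eq (Set.disjoint_left.2 fun χ r s => by simp only [Set.mem_union, Set.mem_ofPred] at r s; omega),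
    Set.ncard_union_eq (Set.disjoint_left.2 fun χ r s => by simp only [Set.mem_ofPred] at r s; omega)] at this
  rw [Nat.card_coe_set_eq]
  omega

theorem res_block (P : Sylow 2 G) (ab : IsMulCommutative P) : ∃ Q : Sylow 2 (pResidual 2 G),
    Nat.card (principalBlock M G) = (pResidual 2 G).index * Nat.card (principalBlock M (pResidual 2 G)) ∧
    blockRank 2 (principalBlock M G) = blockRank 2 (principalBlock M (pResidual 2 G)) ∧
    #(P : Subgroup G) = (pResidual 2 G).index * #(Q : Subgroup (pResidual 2 G)) ∧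
    C[(Q : Subgroup (pResidual 2 G))].relIndex N[(Q : Subgroup (pResidual 2 G))] =
      C[(P : Subgroup G)].relIndex N[(P : Subgroup G)] := by
  have := Fintype.ofFinite G
  obtain ⟨h1, -, -, -, h2, h3⟩ := S4640.result 2 M PMod.out (pResidual 2 G) Transfer.exists_index_pResidual _
    isPBlock_principalBlock (fun g => (stabilizesBlock_iff isPBlock_principalBlock).2 ⟨le_normalizer_of_normal (mem_top g),
      (isPrinc_eS _).cj_eq (le_normalizer_of_normal (mem_top g))⟩) _ isPBlock_principalBlock ⟨_, irrOne_mem_principalBlock, _,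
      irrOne_mem_principalBlock, isIrrCharacter_one.classInner_self.trans_ne one_ne_zero⟩ _ (isDefectGroup_principal P)
    fun x hx y hy => IsMulCommutative.comm ab hx hy
  obtain ⟨Q, hQ⟩ := sylow_of_sylowIn (Sylow_setI_normal (normal_top_iff.2 (inferInstance : (pResidual 2 G).Normal)) (sylowIn_top P))
  refine ⟨Q, h2, h3, ?_, ?_⟩
  · rw [← card_map_of_injective (pResidual 2 G).subtype_injective, hQ, ← relIndex_top_right, ← h1,
      relIndex_sup_norml (le_normalizer_of_normal.trans' le_top), mul_comm, card_inf_mul_relIndex]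
  · rw [← ee_res P ab, ← ee_sub inf_le_right, inf_comm, ← hQ, subgroupOf, comap_map_eq_self_of_injective (subtype_injective _)]

theorem core_free (h : ∀ H : Subgroup G, H.index ≠ 2) (P : Sylow 2 G) (ab : IsMulCommutative P)
    (he : (C[(P : Subgroup G)].relIndex N[(P : Subgroup G)]).Prime) (hx : x ∈ (P : Subgroup G)) (x1 : x ≠ 1) :
    N[(P : Subgroup G)] ⊓ C1[x] ≤ C[(P : Subgroup G)] := by
  by_contra r
  have := (p_index_maximal (cent_sub _) he).sup_eq inf_le_left r
  exact x1 ((cent_norm_bot h P ab).le ⟨hx, le_cent1_iff.1 (this.ge.trans (sup_le (le_cent1_iff.2 (cents_symm le_rfl hx))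
    inf_le_right))⟩)

theorem solv_rank [Group.IsSolvable G] (P : Sylow 2 G) (ab : IsMulCommutative P)
    (he : (C[(P : Subgroup G)].relIndex N[(P : Subgroup G)]).Prime) :
    C[(P : Subgroup G)].relIndex N[(P : Subgroup G)] ≤ blockRank 2 (principalBlock M G) := by
  have nO : ∀ A : Subgroup G, A ≤ N[pPrimeCore 2 G] := fun _ => le_normalizer_of_normal.trans' le_top
  have h1 := Frattini_arg (normal_top_iff.2 (S0018.result 2 P ab)) (pHall_subl le_sup_left le_top (sylowIn_top P))
  have n : ⊤ ≤ N[C[(P : Subgroup G)] ⊔ pPrimeCore 2 G] := h1.ge.trans (sup_le (sup_le (normsY (norms_cent (normG _)) (nO _))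
    (le_sup_right.trans (normG _))) (normsY (norms_cent inf_le_right) (nO _)))
  have nn := normal_top_iff.1 ⟨le_top, n⟩
  have l := IsMulCommutative.cent ab
  have i : (C[(P : Subgroup G)] ⊔ pPrimeCore 2 G).index = C[(P : Subgroup G)].relIndex N[(P : Subgroup G)] := by
    rw [← relIndex_top_right, ← show C[(P : Subgroup G)] ⊔ pPrimeCore 2 G ⊔ N[(P : Subgroup G)] = ⊤ from top_le_iff.1 (h1.ge.trans
      (sup_le_sup (sup_le_sup_right l _) inf_le_right)), relIndex_sup_norml (le_top.trans n), ← inf_relIndex_left,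
      group_modl (.inl (nO _)) (cent_sub _), inf_comm, coprime_norm_cent (nO _) (P.card_eq_multiplicity ▸
        (Solv.coprime_card_pPrimeCore 2 G).pow_right _), sup_eq_left.2 inf_le_right]
  have := Fact.mk he
  have : IsCyclic (G ⧸ (C[(P : Subgroup G)] ⊔ pPrimeCore 2 G)) := isCyclic_of_prime_card i
  refine i ▸ index_le_rank _ IsCyclic.isMulCommutative.is_comm.comm (fun a => ?_) fun β =>
    (principalBlock_psolv (Solv.isPSolvable_of_isSolvable 2 G)).2 fun n hn => by
      rw [infl_apply, infl_apply, map_one, QuotientGroup.mk'_apply, (QuotientGroup.eq_one_iff n).2 (mem_sup_right hn)]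
  obtain ⟨g, rfl⟩ := QuotientGroup.mk_surjective a
  obtain ⟨j, hj⟩ := (isPPart_pPart 2 g).orderOf_eq
  obtain ⟨c, -, hc⟩ := Sylow_Jsub (sylowIn_top P) le_top (IsPGroup.of_card (p := 2) (Nat.card_zpowers _ |>.trans hj))
  refine ⟨_, not_dvd_orderOf_regPart 2 g, ?_⟩
  conv_rhs => rw [← pPart_mul_regPart 2 g, QuotientGroup.mk_mul, (QuotientGroup.eq_one_iff _).2 (by
    simpa [mul_assoc] using nn.conj_mem _ (mem_sup_left (l (hc (conj_mem_cj c (mem_zpowers _))))) c⁻¹), one_mul]

theorem princ_frob (P : Sylow 2 G) (ab : IsMulCommutative P) (h1 : (P : Subgroup G) ≠ ⊥)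
    (h : ∀ x ∈ (P : Subgroup G), x ≠ 1 → N[(P : Subgroup G)] ⊓ C1[x] ≤ C[(P : Subgroup G)]) {m : ℕ}
    (hm : C[(P : Subgroup G)].relIndex N[(P : Subgroup G)] = m) : ∃ r, Nat.card (principalBlock M G) =
      blockRank 2 (principalBlock M G) + r ∧ r * m + 1 = #(P : Subgroup G) ∧ blockRank 2 (principalBlock M G) ≤ m ∧
      (m ≤ 3 → blockRank 2 (principalBlock M G) = m) := by
  have := Fintype.ofFinite G
  have l := IsMulCommutative.cent ab
  have e : NP (P : Subgroup G) (eS M _ (principalBlock M C[(P : Subgroup G)])) = N[(P : Subgroup G)] :=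
    le_antisymm NP_le_normalizer fun g hg => mem_NP.2 ⟨hg, (isPrinc_eS _).cj_eq (norms_cent le_rfl hg)⟩
  refine frob_block isPBlock_principalBlock (IsMaximalBrauerPair.isMax (isMax_of_induced (isDefectGroup_principal P)
    ((isInducedBlock_principal_iff (inducedBlockDefined_of_le P.isPGroup' l le_rfl (cent_sub _) isPBlock_principalBlock)).2 rfl)))
    l h1 (fun u hu u1 g hg => h u hu u1 ⟨e.le hg.1, mem_cent1.2 (hg.2 u (mem_zpowers u)).symm⟩) (e ▸ hm)

theorem sol_of_npc (h : HasNormalPComplement 2 G) : Group.IsSolvable G := by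
  obtain ⟨P, N, _, h⟩ := h
  have := solvableY (.inr (le_normalizer_of_normal.trans' le_top)) (FTC.solvable_of_odd (G := N) (Nat.not_even_iff_odd.1 fun e =>
    P.not_dvd_index (h.index_eq_card ▸ e.two_dvd))) (pgroup_sol P.isPGroup')
  rw [h.sup_eq_top] at this
  exact Group.isSolvable_of_surjective (f := (⊤ : Subgroup G).subtype) fun x => ⟨⟨x, trivial⟩, rfl⟩

theorem core_block (h : ∀ H : Subgroup G, H.index ≠ 2) (P : Sylow 2 G) (ab : IsMulCommutative P)
    (he : (C[(P : Subgroup G)].relIndex N[(P : Subgroup G)]).Prime) :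
    blockRank 2 (principalBlock M G) = C[(P : Subgroup G)].relIndex N[(P : Subgroup G)] ∧
      (¬ Group.IsSolvable G → Nat.card (principalBlock M G) = #(P : Subgroup G)) := by
  have P1 : (P : Subgroup G) ≠ ⊥ := fun r => he.ne_one (relIndex_eq_one.2 (by simp [r]))
  have fr := fun x => core_free (x := x) h P ab he
  obtain ⟨r, h1, h2, h3, h4⟩ := princ_frob (M := M) P ab P1 fr rfl
  by_cases hs : Group.IsSolvable G
  · exact ⟨h3.antisymm (solv_rank P ab he), fun r => absurd hs r⟩
  have hab := hab_of_sylow P ab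
  obtain ⟨F, _, _, hF, L, _, ⟨e⟩, hL⟩ := (S3188.result P ab fun t ht => by
    obtain ⟨c, -, hc⟩ := Sylow_Jsub (sylowIn_top P) le_top (IsPGroup.of_card (p := 2) (n := 1) (Nat.card_zpowers _ |>.trans ht))
    have hc := hc (conj_mem_cj c (mem_zpowers t))
    have := solvableJ c⁻¹ (sol_of_npc (complement_of_inf_le P (H := C1[c * t * c⁻¹]) (le_cent1_iff.2 (IsMulCommutative.cent ab hc))
      fun n hn hn' => fr _ hc (by simpa using ne_of_ord ht) ⟨hn', hn⟩))
    rwa [C1_conj, BG.cj_inv_cj] at this).resolve_left hs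
  have hf := QuotientGroup.mk'_surjective (oddCore G)
  have ho : Odd #(QuotientGroup.mk' (oddCore G)).ker := SE.odd_ker_mkO
  have hO : pPrimeCore 2 (G ⧸ oddCore G) = ⊥ := Solv.pPrimeCore_quotient_pPrimeCore 2 G
  generalize QuotientGroup.mk' (oddCore G) = f at *
  have q : 4 ≤ Nat.card F := by
    rw [Nat.card_eq_fintype_card]
    rcases hF with hF | ⟨n, hn, hF⟩
    exacts [by omega, hF ▸ Nat.pow_le_pow_right (n := 2) two_pos hn]
  have inj : ∀ x ∈ (P : Subgroup G), f x = 1 → x = 1 := fun x hx r => (coprime_TI (A := P) (B := f.ker)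
    (P.card_eq_multiplicity ▸ (Nat.coprime_two_left.2 ho).pow_left _)).le ⟨hx, r⟩
  have PL : (P : Subgroup G).map f ≤ L := by
    simpa [hL] using syl_le_sup (hab_map hf hab) (Op'_sub hO L) (P.mapSurjective hf)
  have sy : SylowIn 2 ((P : Subgroup G).map f) L := pHall_subl PL le_top (sylowIn_top (P.mapSurjective hf))
  have ab' := hab_map hf hab _ sy.pg
  have cP : #(P : Subgroup G) = 2 ^ (Nat.card PSL(2, F)).factorization 2 := by
    rw [← Nat.card_congr e.toEquiv, ← card_Sylow sy]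
    exact Nat.card_congr (Equiv.ofBijective _ ⟨(injective_iff_map_eq_one _).2 fun x hx => Subtype.ext
      (inj x x.2 (congrArg Subtype.val hx)), f.subgroupMap_surjective _⟩)
  have T : ∀ x ∈ (P : Subgroup G), ∀ y ∈ (P : Subgroup G), x ≠ 1 → y ≠ 1 →
      ∃ n ∈ N[(P : Subgroup G)], f n ∈ L ∧ n * x * n⁻¹ = y := fun x hx y hy x1 y1 => by
    have := Matrix.ProjectiveSpecialLinearGroup.rank_two_simple (F := F) q
    have o : ∀ x (hx : x ∈ (P : Subgroup G)), x ≠ 1 → orderOf (e ⟨f x, PL (mem_map_of_mem f hx)⟩) = 2 := fun x hx x1 => by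
      rw [e.orderOf_eq, ← orderOf_coe]
      refine orderOf_two_iff.2 ⟨((LieM.sa_of_sylow sy ab' le_rfl fun _ _ _ _ h => h).facts e.isSimpleGroup fun r => ?_).1 _
        (mem_map_of_mem f hx), fun r => x1 (inj x hx r)⟩
      exact x1 (inj x hx (hL.le fun a ha => congrArg Subtype.val (r.is_comm.comm ⟨a, ha⟩ ⟨f x, PL (mem_map_of_mem f hx)⟩)))
    obtain ⟨c, hc⟩ := isConj_iff.1 (e.symm.toMonoidHom.map_isConj (psl_cls (o x hx x1) (o y hy y1)))
    replace hc : c * f x * c⁻¹ = f y := by simpa using congrArg Subtype.val hc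
    obtain ⟨n, hn, k⟩ := fuse sy c.2 (IsMulCommutative.cent ab' (mem_map_of_mem f hx))
      (IsMulCommutative.cent ab' (hc ▸ mem_map_of_mem f hy))
    obtain ⟨n, rfl⟩ := hf n
    obtain ⟨m, hm, k'⟩ := lift_norm P hn.2
    exact ⟨m, hm, k' ▸ hn.1, eq_of_mul_inv_eq_one (inj _ (mul_mem ((mem_normalizer_iff.1 hm x).1 hx) (inv_mem hy))
      (by simp [k', k, ← hc]))⟩
  obtain ⟨x, hx, x1⟩ := (P : Subgroup G).bot_or_exists_ne_one.resolve_left P1
  have le : #(P : Subgroup G) - 1 ≤ C[(P : Subgroup G)].relIndex N[(P : Subgroup G)] := by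
    choose! n hn using fun y hy => T x hx y hy x1
    refine (Set.ncard_sdiff_singleton_of_mem (P : Subgroup G).one_mem).ge.trans ?_
    refine Nat.card_le_card_of_injective (fun y => ((⟨n y, (hn y y.2.1 y.2.2).1⟩ : N[(P : Subgroup G)]) : _ ⧸ _)) fun y z r => ?_
    have := QuotientGroup.eq.1 r x hx
    refine Subtype.ext (((hn y y.2.1 y.2.2).2.2.symm.trans ?_).trans (hn z z.2.1 z.2.2).2.2)
    calc _ = n y * (x * ((n y)⁻¹ * n z)) * (n z)⁻¹ := by group
      _ = _ := by rw [show x * ((n y)⁻¹ * n z) = (n y)⁻¹ * n z * x from this]; group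
  have c1 := (one_lt_card_iff_ne_bot _).2 P1
  obtain rfl : r = 1 := by
    rcases r with _ | _ | r
    · omega
    · rfl
    · have := he.two_le; rw [add_mul, add_mul] at h2; omega
  suffices #(P : Subgroup G) ≤ Nat.card (principalBlock M G) from ⟨by omega, fun _ => by omega⟩
  rcases hF with hF | ⟨n, hn, hF⟩
  · obtain ⟨R⟩ : Nonempty (Sylow 2 PSL(2, F)) := inferInstance
    rw [← R.card_eq_multiplicity, (S0276.result rfl hF.1 R).card_four] at cP
    omega
  have s : L ⊔ C[(P : Subgroup G).map f] = ⊤ := top_le_iff.1 ((Frattini_arg (normal_top_iff.2 ‹_›) sy).ge.trans (sup_le le_sup_left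
    fun g hg => by
      obtain ⟨g, rfl⟩ := hf g
      obtain ⟨a, ha, k⟩ := lift_norm P hg.2
      obtain ⟨b, hb, k1, k2⟩ := T x hx _ ((mem_normalizer_iff.1 ha x).1 hx) x1 (by simpa using x1)
      have := mul_mem_sup k1 (cents_map f le_rfl (mem_map_of_mem f (fr x hx x1 (show b⁻¹ * a ∈ _ from ⟨Subgroup.mul_mem _ (Subgroup.inv_mem _ hb) ha,
        mem_cent1.2 (by rw [mul_assoc, mul_inv_eq_iff_eq_mul.1 k2.symm]; group)⟩))))
      simpa [k] using this))
  have : CharP F 2 := charP_of_card_eq_prime_pow hF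
  choose χ hχ using fun θ : principalBlock M L => ((S4551.result 2 M PMod.out L (fun r => (P.mapSurjective hf).not_dvd_index
    (r.trans (index_dvd_of_le PL))) (P.mapSurjective hf) s).2 θ θ.2).exists
  have k1 := Nat.card_le_card_of_injective (fun θ => (⟨χ θ, (hχ θ).1⟩ : principalBlock M _)) fun a b r =>
    Subtype.ext (Subtype.ext (funext fun n => by rw [← (hχ a).2, ← (hχ b).2, Subtype.mk.inj r]))
  have k2 := sl_card (M := M) hn hF
  rw [← image_mapIrr_principalBlock (e.trans (slEquivPSL (CharP.cast_eq_zero F 2)).symm),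
    Nat.card_image_of_injective (Equiv.injective _)] at k2
  rw [principalBlock_eq_image_infl hf ho.not_two_dvd_nat, Nat.card_image_of_injective (infl_injective _ hf)]
  refine le_trans (Nat.le_of_dvd (by positivity) ?_) (k2.trans k1)
  have c := card_PSL2_mul (F := F)
  rw [Nat.card_eq_fintype_card (α := F), hF, mul_assoc] at c
  obtain ⟨k, rfl⟩ : ∃ k, n = k + 1 := ⟨n - 1, by omega⟩
  rw [cP]
  refine (Nat.Coprime.pow_left _ (Nat.coprime_two_left.2 ?_)).dvd_of_dvd_mul_right (c ▸ (Nat.ordProj_dvd _ _).mul_left _)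
  have := Nat.one_le_two_pow (n := k)
  exact (Nat.odd_iff.2 (by omega)).mul (Nat.odd_iff.2 (by omega))

theorem prime_block (P : Sylow 2 G) (ab : IsMulCommutative P)
    (he : (C[(P : Subgroup G)].relIndex N[(P : Subgroup G)]).Prime) :
    blockRank 2 (principalBlock M G) = C[(P : Subgroup G)].relIndex N[(P : Subgroup G)] ∧
      (¬ Group.IsSolvable G → Nat.card (principalBlock M G) = #(P : Subgroup G)) := by
  obtain ⟨Q, h1, h2, h3, h4⟩ := res_block (M := M) P ab
  obtain ⟨h5, h6⟩ := core_block (M := M) pResidual_no_index_two Q (hab_sub (hab_of_sylow P ab) _ _ Q.isPGroup') (h4 ▸ he)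
  refine ⟨by rw [h2, h5, h4], fun hs => h1.trans (h3.trans (congrArg _ (h6 fun r => hs ?_).symm)).symm⟩
  have := solvableY (.inr (le_normalizer_of_normal.trans' le_top)) r (pgroup_sol P.isPGroup')
  rw [Transfer.pResidual_sup_sylow] at this
  exact Group.isSolvable_of_surjective (f := (⊤ : Subgroup G).subtype) fun x => ⟨⟨x, trivial⟩, rfl⟩

end Cfsg.Agent.AB
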