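import Cfsg.Agent.AB.EAra
import Cfsg.Agent.AB.EArT

/-! Lattice arithmetic for `E = L` (parts `EAra`, `EArT`). -/
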