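import Cfsg.Agent.AB.ESeta
import Cfsg.Agent.AB.ESet3
import Cfsg.Agent.AB.ESetQ
import Cfsg.Agent.AB.ESetJ

/-! ESet: collects `WJ.exists_fs`, `FS.quo`, `FS.three`, `FS.exists_J`. -/
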